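import Mathlib

set_option autoImplicit false

namespace Cfsg.Agent.H448.Lb

/-- Computation in `GL₂(7)`: homologies of order six with three different axes generate a
group with an element of order seven. -/
theorem mat (S : Submonoid (Matrix (Fin 2) (Fin 2) (ZMod 7)))
    (hS : ∀ M ∈ S, M ^ 7 = 1 → M = 1) (ha : !![1, 0; 0, 3] ∈ S)
    (hb : ∃ s : ZMod 7, !![3, 0; s, 1] ∈ S)
    (hc : ∃ t : ZMod 7, !![3 + t, -2 - t; t, 1 - t] ∈ S) : False := by
  obtain ⟨s, hb⟩ := hb
  obtain ⟨t, hc⟩ := hc
  have hs : s = 0 := by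
    have h1 := hS _ (mul_mem (mul_mem (mul_mem (pow_mem ha 5) hb) ha) (pow_mem hb 5))
    by_contra hne
    revert h1
    clear ha hb hc
    revert s
    decide
  subst hs
  have key : ∀ M ∈ S, M ^ 7 = 1 ∧ M ≠ 1 → False := fun M hM h => h.2 (hS M hM h.1)
  have ht : t = 0 ∨ t = 1 ∨ t = 2 ∨ t = 3 ∨ t = 4 ∨ t = 5 ∨ t = 6 := by
    clear hc
    revert t
    decide
  rcases ht with rfl | rfl | rfl | rfl | rfl | rfl | rfl
  · exact key _ (mul_mem (pow_mem hb 5) hc) (by decide)
  · exact key _ (mul_mem (mul_mem (mul_mem (pow_mem ha 2) hc) hb) (pow_mem hc 2)) (by decide)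
  · exact key _ (mul_mem (mul_mem (pow_mem ha 3) hb) (pow_mem hc 2)) (by decide)
  · exact key _ (mul_mem (mul_mem (mul_mem (pow_mem ha 2) hc) hb) (pow_mem hc 2)) (by decide)
  · exact key _ (mul_mem (mul_mem (pow_mem ha 4) hb) hc) (by decide)
  · exact key _ (mul_mem (pow_mem ha 5) hc) (by decide)
  · exact key _ (mul_mem (mul_mem (pow_mem ha 3) (pow_mem hb 2)) hc) (by decide)

theorem four_two : (4 : ZMod 7) * 2 = 1 := by decide

section transport

variable {V : Type*} [CommGroup V]

theorem no_six [Finite V] (hc : Nat.card V = 49) (h7 : ∀ v : V, v ^ 7 = 1)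
    (E : Subgroup (MulAut V)) (hE : ¬ 7 ∣ Nat.card E)
    (h : ∀ v : V, v ≠ 1 → ∃ a ∈ E, a v = v ∧ ∀ w, a w * (w ^ 3)⁻¹ ∈ Subgroup.zpowers v) :
    False := by
  classical
  have : Fact (Nat.Prime 7) := ⟨by norm_num⟩
  let _i : Module (ZMod 7) (Additive V) := AddCommGroup.zmodModule (n := 7) (fun x => by
    have := h7 x.toMul
    exact congrArg Additive.ofMul this)
  -- additive version of the hypothesis
  have h' : ∀ v : Additive V, v ≠ 0 → ∃ a ∈ E, ∃ f : Additive V →ₗ[ZMod 7] Additive V,
      (∀ w : Additive V, f w = Additive.ofMul (a w.toMul)) ∧ f v = v ∧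
      ∀ w, ∃ k : ZMod 7, f w = (3 : ZMod 7) • w + k • v := by
    intro v hv
    obtain ⟨a, haE, hav, ha⟩ := h v.toMul (by simpa using hv)
    refine ⟨a, haE, AddMonoidHom.toZModLinearMap 7 (MonoidHom.toAdditive a.toMonoidHom),
      fun w => rfl, ?_, ?_⟩
    · exact congrArg Additive.ofMul hav
    · intro w
      obtain ⟨k, hk⟩ := Subgroup.mem_zpowers_iff.1 (ha w.toMul)
      refine ⟨(k : ZMod 7), ?_⟩
      have h1 : a w.toMul = w.toMul ^ 3 * v.toMul ^ k := by
        rw [hk, mul_comm, inv_mul_cancel_right]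
      have h2 := congrArg Additive.ofMul h1
      have h3 : (3 : ZMod 7) • w = Additive.ofMul (w.toMul ^ 3) := by
        have : (3 : ZMod 7) • w = (3 : ℕ) • w := by
          rw [← Nat.cast_smul_eq_nsmul (ZMod 7)]; rfl
        rw [this]; rfl
      have h4 : (k : ZMod 7) • v = Additive.ofMul (v.toMul ^ k) := by
        rw [Int.cast_smul_eq_zsmul]; rfl
      rw [h3, h4]
      exact h2
  have hinj : ∀ (a : MulAut V) (f : Additive V →ₗ[ZMod 7] Additive V),
      (∀ w : Additive V, f w = Additive.ofMul (a w.toMul)) → f = 1 → a = 1 := by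
    intro a f hf h1
    ext x
    have := hf (Additive.ofMul x)
    rw [h1] at this
    exact (congrArg Additive.toMul this).symm
  have hfr : Module.finrank (ZMod 7) (Additive V) = 2 := by
    have h1 := Module.natCard_eq_pow_finrank (K := ZMod 7) (V := Additive V)
    have h2 : Nat.card (Additive V) = 7 ^ 2 := hc
    rw [h2, Nat.card_zmod] at h1
    exact (Nat.pow_right_injective (le_refl 2 |>.trans (by norm_num)) h1).symm
  -- a nonzero vector and its homology
  obtain ⟨v, hv⟩ : ∃ v : Additive V, v ≠ 0 := by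
    have : Nontrivial V := Finite.one_lt_card_iff_nontrivial.1 (by rw [hc]; norm_num)
    exact exists_ne 0
  obtain ⟨a, haE, f, hf, hfv, hfw⟩ := h' v hv
  obtain ⟨w, hw⟩ : ∃ w : Additive V, w ∉ Submodule.span (ZMod 7) {v} := by
    by_contra hall
    push Not at hall
    have htop : Submodule.span (ZMod 7) {v} = ⊤ := by
      ext x; simp [hall x]
    have h1 := finrank_span_singleton (K := ZMod 7) hv
    rw [htop, finrank_top, hfr] at h1
    omega
  obtain ⟨k, hk⟩ := hfw w
  set u : Additive V := f w - w with hu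
  have hfu : f u = (3 : ZMod 7) • u := by
    have h1 : f (f w) = (3 : ZMod 7) • f w + k • v := by
      conv_lhs => rw [hk]
      rw [map_add, map_smul, map_smul, hfv]
    have h2 : f w = (3 : ZMod 7) • w + k • v := hk
    rw [hu, map_sub, h1]
    have h3 : k • v = f w - (3 : ZMod 7) • w := by rw [h2]; abel
    rw [h3]
    module
  have hus : u ∉ Submodule.span (ZMod 7) {v} := by
    intro hmem
    apply hw
    have h2 : u = (2 : ZMod 7) • w + k • v := by
      rw [hu, hk]
      module
    have h3 : (2 : ZMod 7) • w ∈ Submodule.span (ZMod 7) {v} := by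
      have : (2 : ZMod 7) • w = u - k • v := by rw [h2]; abel
      rw [this]
      exact sub_mem hmem (Submodule.smul_mem _ _ (Submodule.mem_span_singleton_self v))
    have h4 : w = (4 : ZMod 7) • ((2 : ZMod 7) • w) := by
      rw [smul_smul]
      rw [four_two, one_smul]
    rw [h4]
    exact Submodule.smul_mem _ _ h3
  have hli : LinearIndependent (ZMod 7) ![v, u] := by
    rw [LinearIndependent.pair_iff]
    intro s t hst
    have ht : t = 0 := by
      by_contra ht
      apply hus
      have : u = (-(t⁻¹ * s)) • v := by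
        have h1 : t⁻¹ • (s • v + t • u) = 0 := by rw [hst, smul_zero]
        rw [smul_add, smul_smul, smul_smul, inv_mul_cancel₀ ht, one_smul] at h1
        rw [neg_smul]
        exact eq_neg_of_add_eq_zero_right h1
      rw [this]
      exact Submodule.smul_mem _ _ (Submodule.mem_span_singleton_self v)
    rw [ht, zero_smul, add_zero] at hst
    exact ⟨(smul_eq_zero.1 hst).resolve_right hv, ht⟩
  let b : Module.Basis (Fin 2) (ZMod 7) (Additive V) :=
    basisOfLinearIndependentOfCardEqFinrank hli (by simp [hfr])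
  have hb0 : b 0 = v := by simp [b]
  have hb1 : b 1 = u := by simp [b]
  let S : Submonoid (Matrix (Fin 2) (Fin 2) (ZMod 7)) :=
    { carrier := {M | ∃ g ∈ E, ∀ x : Additive V,
        Matrix.toLin b b M x = Additive.ofMul (g x.toMul)}
      one_mem' := ⟨1, E.one_mem, fun x => by rw [Matrix.toLin_one]; rfl⟩
      mul_mem' := by
        rintro M N ⟨g, hg, h1⟩ ⟨g', hg', h2⟩
        refine ⟨g * g', E.mul_mem hg hg', fun x => ?_⟩
        rw [Matrix.toLin_mul b b b, LinearMap.comp_apply, h2, h1]
        rfl }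
  have hSm : ∀ (M : Matrix (Fin 2) (Fin 2) (ZMod 7)) (g : MulAut V), g ∈ E →
      (∀ x : Additive V, Additive.ofMul (g x.toMul) = Matrix.toLin b b M x) → M ∈ S :=
    fun M g hg hx => ⟨g, hg, fun x => (hx x).symm⟩
  have mk : ∀ (M : Matrix (Fin 2) (Fin 2) (ZMod 7)) (g : MulAut V)
      (f : Additive V →ₗ[ZMod 7] Additive V), g ∈ E →
      (∀ w : Additive V, f w = Additive.ofMul (g w.toMul)) →
      f v = M 0 0 • v + M 1 0 • u → f u = M 0 1 • v + M 1 1 • u → M ∈ S := by
    intro M g f hg hfg h0 h1
    refine hSm M g hg fun x => ?_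
    rw [← hfg]
    have : f = Matrix.toLin b b M := by
      apply b.ext
      intro i
      rw [Matrix.toLin_self, Fin.sum_univ_two, hb0, hb1]
      fin_cases i
      · simpa [hb0] using h0
      · simpa [hb1] using h1
    rw [this]
  refine mat S ?_ ?_ ?_ ?_
  · rintro M ⟨g, hg, hM⟩ h7M
    have hp : ∀ (n : ℕ) (x : Additive V),
        Matrix.toLin b b (M ^ n) x = Additive.ofMul ((g ^ n) x.toMul) := by
      intro n
      induction n with
      | zero => intro x; rw [pow_zero, Matrix.toLin_one]; rfl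
      | succ n ih =>
        intro x
        rw [pow_succ, Matrix.toLin_mul b b b, LinearMap.comp_apply, hM, ih, pow_succ]
        rfl
    have hg7 : g ^ 7 = 1 := by
      refine hinj _ (Matrix.toLin b b (M ^ 7)) (hp 7) ?_
      rw [h7M, Matrix.toLin_one]; rfl
    have hg1 : g = 1 := by
      by_contra hne
      apply hE
      have h1 : orderOf g = 7 := orderOf_eq_prime hg7 hne
      have h2 : orderOf (⟨g, hg⟩ : E) = 7 := by
        rw [← h1]; exact (Subgroup.orderOf_mk g hg)
      rw [← h2]
      exact orderOf_dvd_natCard _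
    have h2 : Matrix.toLin b b M = Matrix.toLin b b 1 := by
      ext x
      rw [hM, hg1, Matrix.toLin_one]; rfl
    exact (Matrix.toLin b b).injective h2
  · exact mk _ a f haE hf (by simp [hfv]) (by simp [hfu])
  · obtain ⟨a', ha'E, f', hf', hf'u, hf'w⟩ := h' u (fun h0 => hus (by rw [h0]; exact zero_mem _))
    obtain ⟨s, hs⟩ := hf'w v
    exact ⟨s, mk _ a' f' ha'E hf' (by simpa using hs) (by simp [hf'u])⟩
  · have hvu : v + u ≠ 0 := by
      intro h0
      apply hus
      have : u = -v := by rw [← add_eq_zero_iff_eq_neg']; exact h0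
      rw [this]
      exact neg_mem (Submodule.mem_span_singleton_self v)
    obtain ⟨a', ha'E, f', hf', hf'u, hf'w⟩ := h' (v + u) hvu
    obtain ⟨t, ht⟩ := hf'w v
    refine ⟨t, mk _ a' f' ha'E hf' ?_ ?_⟩
    · have : f' v = (3 + t) • v + t • u := by rw [ht]; module
      simpa using this
    · have : f' u = (-2 - t) • v + (1 - t) • u := by
        have h1 : f' u = f' (v + u) - f' v := by rw [map_add]; abel
        rw [h1, hf'u, ht]
        module
      simpa using this

end transport

end Cfsg.Agent.H448.Lb
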